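import Cfsg.Agent.Omega.NSix.EngineS.Inst
import Cfsg.Agent.Omega.NSix.Free.Plus

/-!
# #15755 (4) without `⋂ U_p = 1`, and the end under (H2)

* `FrS.four`, `FrS.four_all` : `C_{U_ij}(⟨U_ik : k⟩) = V_ij Σ`;
* `HypS.sixF` : `HypS` and (H2) give `Free.SixF`; `HypS.no_tt` : then no T-T pair (`n ≥ 7`).
-/

set_option autoImplicit false
set_option linter.unusedSectionVars false

namespace Cfsg.Agent.Omega.NSix.EngineS

open Subgroup Cfsg
open Cfsg.Agent.ZN (o2)
open Cfsg.Agent.Omega.S5.Def Cfsg.Agent.Omega.NSix.Base Cfsg.Agent.Omega.NSix.Basic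
open Cfsg.Agent.Omega.NSix.Zero
open Cfsg.Agent.Omega.NSix.Engine
open Cfsg.Agent.Omega.TTn.Di (cm cj cj_mul cj_inv cj_cj cj_one cj_eq_of_comm comm_of_cj cj_eq_cm cm_eq
  cm_one_iff cm_eq')

universe u

variable {G : Type u} [Group G] {n : ℕ}

namespace FrS

variable {ε : (Fin n → ZMod 2) → G} {U W Q : Fin n → Fin n → Subgroup G} {w : Fin n → Fin n → G}
  (F : FrS ε U W Q w) {i j k l m : Fin n}

include F

/-- THEOREM C in the form `ThC` -/
theorem thC (hn : 5 ≤ n) : ThC ε U := by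
  intro i j k hij hki hkj u hu hc
  obtain ⟨m, hmi, hmj, hmk, -⟩ := exists_fifth hn i j k k
  exact (F.thmC' ⟨hij, hki.symm, hmi.symm, hkj.symm, hmj.symm, hmk.symm⟩ hu hc).2

/-- **(4)** -/
theorem four (hC : ThC ε U) (hij : i ≠ j) {u : G} (hu : u ∈ U i j) (S : Finset (Fin n)) :
    i ∉ S → j ∉ S → (∀ k ∈ S, Cen U u i k) →
      ∃ x : Fin n → ZMod 2, (∀ k, k ∉ S → x k = 0) ∧ u * ε x ∈ U i j ∧ ∀ k ∈ S, u * ε x ∈ U i k := by
  induction S using Finset.induction_on with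
  | empty =>
    intro _ _ _
    exact ⟨0, fun _ _ => rfl, by rw [F.zero, mul_one]; exact hu, fun k hk => absurd hk (Finset.notMem_empty k)⟩
  | insert a S ha ih =>
    intro hi hj hc
    rw [Finset.mem_insert, not_or] at hi hj
    obtain ⟨x, h1, h2, h3⟩ := ih hi.2 hj.2 fun k hk => hc k (Finset.mem_insert_of_mem hk)
    have hia : i ≠ a := hi.1
    have hja : j ≠ a := hj.1
    have hxa : ε x ∈ U i a := (F.eU hia _).2 (by rw [h1 i hi.2, h1 a ha])
    rcases hC hia hij.symm hja u hu (hc a (Finset.mem_insert_self _ _)) with h4 | h4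
    · refine ⟨x, fun k hk => h1 k fun h => hk (Finset.mem_insert_of_mem h), h2, fun k hk => ?_⟩
      rcases Finset.mem_insert.1 hk with rfl | hk
      · exact mul_mem h4 hxa
      · exact h3 k hk
    · refine ⟨x + Pi.single a 1, fun k hk => ?_, ?_, fun k hk => ?_⟩
      · rw [Finset.mem_insert, not_or] at hk
        rw [Pi.add_apply, h1 k hk.2, Pi.single_eq_of_ne hk.1, add_zero]
      · rw [F.add, ← mul_assoc]
        exact mul_mem h2 (F.zU hij hia.symm hja.symm)
      · rw [F.add]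
        rcases Finset.mem_insert.1 hk with rfl | hk
        · rw [F.ecomm, ← mul_assoc]
          exact mul_mem h4 hxa
        · have hik : i ≠ k := fun h => hi.2 (h ▸ hk)
          have hak : a ≠ k := fun h => ha (h ▸ hk)
          rw [← mul_assoc]
          exact mul_mem (h3 k hk) (F.zU hik hia.symm hak)

/-- **(4)**, all labels: `C_{U_ij}(⟨U_ik : k⟩) = V_ij Σ` -/
theorem four_all (hC : ThC ε U) (hij : i ≠ j) {u : G} (hu : u ∈ U i j)
    (hc : ∀ k, k ≠ i → k ≠ j → Cen U u i k) : ∃ x : Fin n → ZMod 2, x i = 0 ∧ x j = 0 ∧ All U (u * ε x) := by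
  obtain ⟨x, h1, h2, h3⟩ := F.four hC hij hu (Finset.univ \ {i, j}) (by simp) (by simp) fun k hk => by
    simp only [Finset.mem_sdiff, Finset.mem_univ, true_and, Finset.mem_insert, Finset.mem_singleton, not_or] at hk
    exact hc k hk.1 hk.2
  refine ⟨x, h1 i (by simp), h1 j (by simp), F.star (i := i) fun a => ?_⟩
  rcases eq_or_ne i a with rfl | hia
  · exact Or.inl rfl
  · right
    rcases eq_or_ne a j with rfl | haj
    · exact h2
    · exact h3 a (by simp [hia.symm, haj])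

end FrS

namespace HypS

variable {V P : Subgroup G} {ε : (Fin n → ZMod 2) → G} (h : HypS V P ε) {i j k l : Fin n}
include h

/-- **THEOREM C** in the group -/
theorem thC' [Finite G] : ThC ε (UU ε) := by
  obtain ⟨w, F⟩ := h.exists_fr
  exact F.thC h.n5

/-- the action of `W2` on `O₂(N)` -/
theorem w2_act (hij : i ≠ j) {q x : G} (hq : q ∈ o2 (NN ε i j)) (hx : x ∈ W2 ε i j) :
    x * q * x⁻¹ = q ∨ x * q * x⁻¹ = q * rr ε i j := by
  have hr : rr ε i j * q = q * rr ε i j := (mem_NN.1 (MinSimple.VModule.o2_le _ hq)).symm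
  rcases h.wp_cases hij hq (W2_le _ _ hx) with h1 | h1
  · left
    rw [mul_inv_eq_iff_eq_mul]
    exact (cm_one_iff.1 h1).symm
  · right
    have h2 : q * x = rr ε i j * (x * q) := by
      rw [← h1]; unfold cm; group
    rw [mul_inv_eq_iff_eq_mul, ← hr, mul_assoc, h2, ← mul_assoc, rr_sq h.ev, one_mul]

/-- (H2) gives `SixF` -/
theorem sixF (hq : ∀ i j k l, i ≠ j → k ≠ l → i ≠ k → i ≠ l → j ≠ k → j ≠ l → UU ε i j ≤ o2 (NN ε k l)) :
    Free.SixF V P ε (W2 ε) where
  ev := h.ev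
  Vle := fun i j hij => h.V_le hij
  wn := fun i j _ g hg x hx => W2_norm hg hx
  wc := fun g σ hg i j _ x hx => W2_conj hg hx
  cen := fun i j hij u hu w hw => (h.UQc hij (h.W2_leQ hij hw) hu).symm
  act := fun i j hij w hw => h.QA hij (h.W2_leQ hij hw)
  mov := fun i j hij => by
    obtain ⟨w, hw, hws⟩ := h.exists_w hij
    exact ⟨w, hw, hws⟩
  tra := fun i j k l hij hkl h1 h2 h3 h4 u hu w hw => h.w2_act hkl (hq i j k l hij hkl h1 h2 h3 h4 hu) hw
  hq := hq
  qc := fun i j hij x hx w hw => h.w2_act hij hx hw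
  uq := fun i j hij u hu q hq => (h.UQc hij hq hu).symm

/-- **no T-T pair under (H2)** -/
theorem no_tt [Finite G] (hn : 7 ≤ n)
    (hq : ∀ i j k l, i ≠ j → k ≠ l → i ≠ k → i ≠ l → j ≠ k → j ≠ l → UU ε i j ≤ o2 (NN ε k l)) (hij : i ≠ j)
    {g v v' : G} (hg : g ∈ NN ε i j) (hv : v ∈ V) (hv' : v' ∈ V) : v * (g * v' * g⁻¹) = (g * v' * g⁻¹) * v :=
  Free.Plus.conj_comm (h.sixF hq) h.odd hn hij hg hv hv'

end HypS

end Cfsg.Agent.Omega.NSix.EngineS
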