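import Cfsg.Agent.Omega.NSix.Engine.ThmC

/-!
# The frame of #15755 without `⋂ U_p = 1` (#18783, helper726): labels in `Fin n`

`FrS ε U W Q w`: the frame `Engine.Fr` without `inter`; `All U x` : `x ∈ Σ = ⋂ U_p`; `core` with `[c, U k l] ≤ Σ`.
`Fr.toS` : every `Fr` is an `FrS`.  `star`: `Lab U y i a` for all `a` gives `y ∈ Σ`.
(The text is that of `Engine/Frame.lean`, helper821.)
-/

set_option autoImplicit false
set_option linter.unusedSectionVars false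

namespace Cfsg.Agent.Omega.NSix.EngineS

open Subgroup Cfsg.Agent.Omega.S5.Def Cfsg.Agent.Omega.NSix.Base
open Cfsg.Agent.Omega.NSix.Engine (D4 D5 KK mem_KK mem_KK' Lab Fr)
open Cfsg.Agent.Omega.TTn.Di (cm cj cj_mul cj_inv cj_cj cj_one cj_eq_of_comm comm_of_cj cj_eq_cm cm_eq
  cm_one_iff cm_eq')

universe u

variable {G : Type u} [Group G] {n : ℕ}

/-- `x ∈ Σ = ⋂ U_p` -/
def All (U : Fin n → Fin n → Subgroup G) (x : G) : Prop := ∀ i j, i ≠ j → x ∈ U i j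

theorem All.one {U : Fin n → Fin n → Subgroup G} : All U 1 := fun _ _ _ => one_mem _

theorem All.mul {U : Fin n → Fin n → Subgroup G} {x y : G} (hx : All U x) (hy : All U y) : All U (x * y) :=
  fun i j h => mul_mem (hx i j h) (hy i j h)

theorem All.inv {U : Fin n → Fin n → Subgroup G} {x : G} (hx : All U x) : All U x⁻¹ :=
  fun i j h => inv_mem (hx i j h)

/-- The frame. -/
structure FrS (ε : (Fin n → ZMod 2) → G) (U W Q : Fin n → Fin n → Subgroup G) (w : Fin n → Fin n → G) : Prop where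
  add : ∀ x y, ε (x + y) = ε x * ε y
  eU : ∀ {i j}, i ≠ j → ∀ x, (ε x ∈ U i j ↔ x i = x j)
  cU : ∀ {g : G} {σ : Equiv.Perm (Fin n)}, Acts ε g σ → ∀ {i j}, i ≠ j → ∀ x ∈ U i j, cj g x ∈ U (σ i) (σ j)
  cW : ∀ {g : G} {σ : Equiv.Perm (Fin n)}, Acts ε g σ → ∀ {i j}, i ≠ j → ∀ x ∈ W i j, cj g x ∈ W (σ i) (σ j)
  cQ : ∀ {g : G} {σ : Equiv.Perm (Fin n)}, Acts ε g σ → ∀ {i j}, i ≠ j → ∀ x ∈ Q i j, cj g x ∈ Q (σ i) (σ j)
  Usym : ∀ i j, U i j = U j i
  Wsym : ∀ i j, W i j = W j i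
  Qsym : ∀ i j, Q i j = Q j i
  UK : ∀ {i j}, i ≠ j → U i j ≤ KK ε
  QA : ∀ {i j}, i ≠ j → ∀ q ∈ Q i j, Acts ε q 1 ∨ Acts ε q (Equiv.swap i j)
  Uab : ∀ {i j}, i ≠ j → ∀ u ∈ U i j, ∀ v ∈ U i j, u * v = v * u
  Usq : ∀ {i j}, i ≠ j → ∀ u ∈ U i j, u * u = 1
  UQ : ∀ {i j}, i ≠ j → U i j ≤ Q i j
  UQc : ∀ {i j}, i ≠ j → ∀ q ∈ Q i j, ∀ u ∈ U i j, q * u = u * q
  WQ : ∀ {i j}, i ≠ j → W i j ≤ Q i j
  QW : ∀ {i j}, i ≠ j → ∀ q ∈ Q i j, ∀ x ∈ W i j, cm q x = 1 ∨ cm q x = rr ε i j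
  Wsq : ∀ {i j}, i ≠ j → ∀ x ∈ W i j, x * x = 1 ∨ x * x = rr ε i j
  wW : ∀ {i j}, i ≠ j → w i j ∈ W i j
  wA : ∀ {i j}, i ≠ j → Acts ε (w i j) (Equiv.swap i j)
  cw : ∀ {i j k l}, D4 i j k l → ∀ c, (∀ y ∈ U i j, c * y = y * c) → ∀ x ∈ W k l, cm c x ∈ Q i j
  core : ∀ {i j k l}, D4 i j k l → ∀ c ∈ W j k, (∀ y ∈ U i j, c * y = y * c) →
    (∀ y ∈ U k l, All U (cm c y)) → c ∈ Q i j
  eone : ε 1 = 1

namespace FrS

variable {ε : (Fin n → ZMod 2) → G} {U W Q : Fin n → Fin n → Subgroup G} {w : Fin n → Fin n → G}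
  (F : FrS ε U W Q w) {i j k l m : Fin n}

include F

/-! ### Labels -/

theorem ecomm (x y : Fin n → ZMod 2) : ε x * ε y = ε y * ε x := by rw [← F.add, ← F.add, add_comm]

theorem eK (x : Fin n → ZMod 2) : ε x ∈ KK ε := mem_KK'.2 fun y => F.ecomm x y

theorem zero : ε 0 = 1 := by
  have h := F.add 0 0
  rw [add_zero] at h
  exact left_eq_mul.1 h

theorem esq (x : Fin n → ZMod 2) : ε x * ε x = 1 := by rw [← F.add, add_self, F.zero]

theorem einv (x : Fin n → ZMod 2) : (ε x)⁻¹ = ε x := inv_eq_of_mul_eq_one_left (F.esq x)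

omit F in
theorem Ke {g : G} (hg : g ∈ KK ε) (x : Fin n → ZMod 2) : g * ε x = ε x * g := mem_KK'.1 hg x

theorem zK (i : Fin n) : zz ε i ∈ KK ε := F.eK _

theorem z_sq (i : Fin n) : zz ε i * zz ε i = 1 := F.esq _

theorem z_comm (i j : Fin n) : zz ε i * zz ε j = zz ε j * zz ε i := F.ecomm _ _

theorem z_inv (i : Fin n) : (zz ε i)⁻¹ = zz ε i := F.einv _

omit F in
theorem Kz {g : G} (hg : g ∈ KK ε) (i : Fin n) : g * zz ε i = zz ε i * g := Ke hg _

theorem rr_eq (i j : Fin n) : rr ε i j = ε (Pi.single i 1 + Pi.single j 1) := (F.add _ _).symm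

theorem rrK (i j : Fin n) : rr ε i j ∈ KK ε := by rw [F.rr_eq]; exact F.eK _

omit F in
theorem Kr {g : G} (hg : g ∈ KK ε) (i j : Fin n) : g * rr ε i j = rr ε i j * g := by
  unfold rr
  rw [← mul_assoc, Kz hg, mul_assoc, Kz hg, ← mul_assoc]

theorem r_sq (i j : Fin n) : rr ε i j * rr ε i j = 1 := by rw [F.rr_eq]; exact F.esq _

theorem r_inv (i j : Fin n) : (rr ε i j)⁻¹ = rr ε i j := by rw [F.rr_eq]; exact F.einv _

theorem r_symm (i j : Fin n) : rr ε i j = rr ε j i := F.z_comm i j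

theorem zU (hij : i ≠ j) (hki : k ≠ i) (hkj : k ≠ j) : zz ε k ∈ U i j := by
  refine (F.eU hij _).2 ?_
  rw [Pi.single_eq_of_ne hki.symm, Pi.single_eq_of_ne hkj.symm]

theorem zU' (hij : i ≠ j) : zz ε i ∉ U i j := by
  intro h
  have h1 := (F.eU hij _).1 h
  rw [Pi.single_eq_same, Pi.single_eq_of_ne hij.symm] at h1
  exact one_ne_zero h1

theorem zU'' (hij : i ≠ j) : zz ε j ∉ U i j := by
  rw [F.Usym]
  exact F.zU' hij.symm

theorem rU (hij : i ≠ j) : rr ε i j ∈ U i j := by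
  rw [F.rr_eq, F.eU hij, Pi.add_apply, Pi.add_apply, Pi.single_eq_same, Pi.single_eq_same,
    Pi.single_eq_of_ne hij, Pi.single_eq_of_ne hij.symm, add_zero, zero_add]

/-- `r_ik` is not in `U i j` -/
theorem r_nmem (hij : i ≠ j) (hki : k ≠ i) (hkj : k ≠ j) : rr ε i k ∉ U i j := by
  intro h
  have h1 := mul_mem h (F.zU hij hki hkj)
  have h2 : rr ε i k * zz ε k = zz ε i := by
    unfold rr
    rw [mul_assoc, F.z_sq, mul_one]
  rw [h2] at h1
  exact F.zU' hij h1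

theorem rr_mem_disj (hij : i ≠ j) (hki : k ≠ i) (hkj : k ≠ j) (hli : l ≠ i) (hlj : l ≠ j) : rr ε k l ∈ U i j :=
  mul_mem (F.zU hij hki hkj) (F.zU hij hli hlj)

/-! ### Conjugation -/

theorem KU (hij : i ≠ j) {g : G} (hg : g ∈ KK ε) {u : G} (hu : u ∈ U i j) : cj g u ∈ U i j := F.cU hg hij u hu

theorem KW (hij : i ≠ j) {g : G} (hg : g ∈ KK ε) {u : G} (hu : u ∈ W i j) : cj g u ∈ W i j := F.cW hg hij u hu

theorem KQ (hij : i ≠ j) {g : G} (hg : g ∈ KK ε) {u : G} (hu : u ∈ Q i j) : cj g u ∈ Q i j := F.cQ hg hij u hu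

/-- conjugation by an element acting as `(i j)` -/
theorem sw1 {g : G} (hg : Acts ε g (Equiv.swap i j)) (hki : k ≠ i) (hkj : k ≠ j) {u : G}
    (hu : u ∈ U i k) : cj g u ∈ U j k := by
  have h := F.cU hg hki.symm u hu
  rwa [Equiv.swap_apply_left, Equiv.swap_apply_of_ne_of_ne hki hkj] at h

theorem sw2 {g : G} (hg : Acts ε g (Equiv.swap i j)) (hki : k ≠ i) (hkj : k ≠ j) {u : G}
    (hu : u ∈ U j k) : cj g u ∈ U i k := by
  have h := F.cU hg hkj.symm u hu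
  rwa [Equiv.swap_apply_right, Equiv.swap_apply_of_ne_of_ne hki hkj] at h

theorem sw3 {g : G} (hg : Acts ε g (Equiv.swap i j)) (hki : k ≠ i) (hkj : k ≠ j) (hli : l ≠ i)
    (hlj : l ≠ j) (hkl : k ≠ l) {u : G} (hu : u ∈ U k l) : cj g u ∈ U k l := by
  have h := F.cU hg hkl u hu
  rwa [Equiv.swap_apply_of_ne_of_ne hki hkj, Equiv.swap_apply_of_ne_of_ne hli hlj] at h

theorem w1 (hij : i ≠ j) (hki : k ≠ i) (hkj : k ≠ j) {u : G} (hu : u ∈ U i k) : cj (w i j) u ∈ U j k :=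
  F.sw1 (F.wA hij) hki hkj hu

theorem w2 (hij : i ≠ j) (hki : k ≠ i) (hkj : k ≠ j) {u : G} (hu : u ∈ U j k) : cj (w i j) u ∈ U i k :=
  F.sw2 (F.wA hij) hki hkj hu

theorem w3 (hij : i ≠ j) (hki : k ≠ i) (hkj : k ≠ j) (hli : l ≠ i) (hlj : l ≠ j) (hkl : k ≠ l) {u : G}
    (hu : u ∈ U k l) : cj (w i j) u ∈ U k l := F.sw3 (F.wA hij) hki hkj hli hlj hkl hu

theorem W1 (hij : i ≠ j) (hki : k ≠ i) (hkj : k ≠ j) {u : G} (hu : u ∈ W i k) : cj (w i j) u ∈ W j k := by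
  have h := F.cW (F.wA hij) hki.symm u hu
  rwa [Equiv.swap_apply_left, Equiv.swap_apply_of_ne_of_ne hki hkj] at h

theorem W2 (hij : i ≠ j) (hki : k ≠ i) (hkj : k ≠ j) {u : G} (hu : u ∈ W j k) : cj (w i j) u ∈ W i k := by
  have h := F.cW (F.wA hij) hkj.symm u hu
  rwa [Equiv.swap_apply_right, Equiv.swap_apply_of_ne_of_ne hki hkj] at h

theorem W3 (hij : i ≠ j) (hki : k ≠ i) (hkj : k ≠ j) (hli : l ≠ i) (hlj : l ≠ j) (hkl : k ≠ l) {u : G}
    (hu : u ∈ W k l) : cj (w i j) u ∈ W k l := by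
  have h := F.cW (F.wA hij) hkl u hu
  rwa [Equiv.swap_apply_of_ne_of_ne hki hkj, Equiv.swap_apply_of_ne_of_ne hli hlj] at h

omit F in
/-- conjugates of elements of `C_G(V)` -/
theorem KK_conj {g : G} {σ : Equiv.Perm (Fin n)} (hg : Acts ε g σ) {x : G} (hx : x ∈ KK ε) : cj g x ∈ KK ε := by
  have h := hg.conj (mem_KK.1 hx)
  rw [mul_one, mul_inv_cancel] at h
  exact h

/-- an element of `Q i j` acting as `(i j)` is an involution on `C_G(V)` -/
theorem w_sq_comm (hij : i ≠ j) {g : G} (hg : g ∈ KK ε) : w i j * w i j * g = g * (w i j * w i j) := by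
  rcases F.Wsq hij _ (F.wW hij) with h | h
  · rw [h, one_mul, mul_one]
  · rw [h, Kr hg]

/-- `w` acts on `K` as an involution -/
theorem cj_w_w (hij : i ≠ j) {g : G} (hg : g ∈ KK ε) : cj (w i j) (cj (w i j) g) = g := by
  rw [cj_cj]
  exact cj_eq_of_comm (F.w_sq_comm hij hg)

/-- preimage under `w` -/
theorem cj_w_eq (hij : i ≠ j) {g h : G} (hg : g ∈ KK ε) (e : h = cj (w i j) g) : g = cj (w i j) h := by
  rw [e, F.cj_w_w hij hg]

/-- `w i j` centralises `U i j` -/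
theorem cj_w_self (hij : i ≠ j) {u : G} (hu : u ∈ U i j) : cj (w i j) u = u :=
  cj_eq_of_comm (F.UQc hij _ (F.WQ hij (F.wW hij)) u hu)

/-! ### (1) Intersections: the sigma calculus -/

/-- (1.1) -/
theorem tri (hij : i ≠ j) (hki : k ≠ i) (hkj : k ≠ j) {y : G} (h1 : y ∈ U i j) (h2 : y ∈ U i k) :
    y ∈ U j k := by
  have h3 := F.w1 hij hki hkj h2
  rwa [F.cj_w_self hij h1] at h3

theorem tri' (hij : i ≠ j) (hki : k ≠ i) (hkj : k ≠ j) {y : G} (h1 : y ∈ U i k) (h2 : y ∈ U j k) :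
    y ∈ U i j := by
  rw [F.Usym] at h1 h2
  exact F.tri hki hkj.symm hij.symm h1 h2

theorem lab_symm {x : G} (h : Lab U x i j) : Lab U x j i := by
  rcases h with h | h
  · exact Or.inl h.symm
  · exact Or.inr (F.Usym i j ▸ h)

theorem lab_trans {x : G} (h1 : Lab U x i j) (h2 : Lab U x j k) : Lab U x i k := by
  rcases eq_or_ne i j with rfl | hij
  · exact h2
  rcases eq_or_ne j k with rfl | hjk
  · exact h1
  rcases eq_or_ne i k with rfl | hik
  · exact Or.inl rfl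
  have e1 := h1.resolve_left hij
  have e2 := h2.resolve_left hjk
  right
  rw [F.Usym] at e1
  exact F.tri hij.symm hjk.symm hik.symm e1 e2

omit F in
theorem lab_refl (x : G) (i : Fin n) : Lab U x i i := Or.inl rfl

omit F in
theorem lab_ne {x : G} (hij : i ≠ j) : Lab U x i j ↔ x ∈ U i j := or_iff_right hij

omit F in
theorem lab_mul {x y : G} (h1 : Lab U x i j) (h2 : Lab U y i j) : Lab U (x * y) i j := by
  rcases eq_or_ne i j with rfl | hij
  · exact Or.inl rfl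
  · exact Or.inr (mul_mem (h1.resolve_left hij) (h2.resolve_left hij))

omit F in
theorem lab_inv {x : G} (h1 : Lab U x i j) : Lab U x⁻¹ i j := h1.imp_right fun h => inv_mem h

theorem lab_e (x : Fin n → ZMod 2) : Lab U (ε x) i j ↔ x i = x j := by
  rcases eq_or_ne i j with rfl | hij
  · exact ⟨fun _ => rfl, fun _ => Or.inl rfl⟩
  · rw [lab_ne hij, F.eU hij]

/-- all `U`'s from a star -/
theorem star {y : G} (h : ∀ a, Lab U y i a) : All U y :=
  fun a b hab => (F.lab_trans (F.lab_symm (h a)) (h b)).resolve_left hab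

/-- `[s, y] ∈ U i j` for `s ∈ U i j`, `y ∈ C_G(V)` -/
theorem cm_left (hij : i ≠ j) {v y : G} (hv : v ∈ U i j) (hy : y ∈ KK ε) : cm v y ∈ U i j := by
  rw [cm_eq]
  have e : cj v y * y⁻¹ = v * (cj y v)⁻¹ := by unfold cj; group
  rw [e]
  exact mul_mem hv (inv_mem (F.KU hij hy hv))

theorem cm_right (hij : i ≠ j) {v y : G} (hv : v ∈ KK ε) (hy : y ∈ U i j) : cm v y ∈ U i j := by
  rw [cm_eq]
  exact mul_mem (F.KU hij hv hy) (inv_mem hy)

theorem lab_cm_left {v y : G} (hv : Lab U v i j) (hy : y ∈ KK ε) : Lab U (cm v y) i j := by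
  rcases eq_or_ne i j with rfl | hij
  · exact Or.inl rfl
  · exact Or.inr (F.cm_left hij (hv.resolve_left hij) hy)

theorem lab_cm_right {v y : G} (hv : v ∈ KK ε) (hy : Lab U y i j) : Lab U (cm v y) i j := by
  rcases eq_or_ne i j with rfl | hij
  · exact Or.inl rfl
  · exact Or.inr (F.cm_right hij hv (hy.resolve_left hij))

theorem lab_cj {g : G} {σ : Equiv.Perm (Fin n)} (hg : Acts ε g σ) {x : G} (h : Lab U x i j) :
    Lab U (cj g x) (σ i) (σ j) := by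
  rcases eq_or_ne i j with rfl | hij
  · exact Or.inl rfl
  · exact Or.inr (F.cU hg hij x (h.resolve_left hij))

theorem cmK {x y : G} (hx : x ∈ KK ε) (hy : y ∈ KK ε) : cm x y ∈ KK ε :=
  mul_mem (mul_mem (mul_mem hx hy) (inv_mem hx)) (inv_mem hy)

/-! ### (2) -/

/-- `u w u⁻¹ w⁻¹ ∈ W` -/
theorem uw (hij : i ≠ j) {x : G} (hx : x ∈ W i j) {u : G} (hu : u ∈ KK ε) : cm u x ∈ W i j := by
  rw [cm_eq]
  exact mul_mem (F.KW hij hu hx) (inv_mem hx)

theorem inv_self (hij : i ≠ j) {u : G} (hu : u ∈ U i j) : u⁻¹ = u :=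
  inv_eq_of_mul_eq_one_left (F.Usq hij u hu)

/-- `u · u^w ∈ W` -/
theorem uuw {a b : Fin n} (hij : i ≠ j) (hab : a ≠ b) {u : G} (hu : u ∈ U a b) :
    u * cj (w i j) u ∈ W i j := by
  have h := F.uw hij (F.wW hij) (F.UK hab hu)
  have e : cm u (w i j) = u * cj (w i j) u := by
    rw [cm_eq', F.inv_self hab hu]
  rwa [e] at h

/-- membership in `⟨z_j⟩ Σ_ijk`, inside `U i k` (triangle `i j k`) -/
def PP (ε : (Fin n → ZMod 2) → G) (U : Fin n → Fin n → Subgroup G) (i k j : Fin n) (y : G) : Prop :=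
  y ∈ U i k ∧ (y ∈ U i j ∨ y * zz ε j ∈ U i j)

/-- the key dichotomy: `y = e z`, `y ∈ U i k`, `z ∈ U j k`, `e ∈ {1, r_ij}` -/
theorem pp_of (hij : i ≠ j) (hki : k ≠ i) (hkj : k ≠ j) {y z e : G} (hy : y ∈ U i k)
    (hz : z ∈ U j k) (he : e = 1 ∨ e = rr ε i j) (h : y = e * z) : PP ε U i k j y := by
  refine ⟨hy, ?_⟩
  rcases he with rfl | rfl
  · left
    rw [one_mul] at h
    exact F.tri' hij hki hkj hy (h ▸ hz)
  · right
    have h1 : y * zz ε j = zz ε i * z := by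
      rw [h, mul_assoc, Kz (F.UK hkj.symm hz), ← mul_assoc]
      unfold rr
      rw [mul_assoc (zz ε i), F.z_sq, mul_one]
    refine F.tri' hij hki hkj (mul_mem hy (F.zU hki.symm hij.symm hkj.symm)) ?_
    rw [h1]
    exact mul_mem (F.zU hkj.symm hij hki.symm) hz

/-- (1.3): `[U_ik, Q_ij ∩ C(V)] ≤ ⟨z_j⟩ Σ_ijk` -/
theorem uq (hij : i ≠ j) (hki : k ≠ i) (hkj : k ≠ j) {u q : G} (hu : u ∈ U i k) (hq : q ∈ Q i j)
    (hqK : q ∈ KK ε) : PP ε U i k j (u⁻¹ * cj q u) := by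
  set u' := cj (w i j) u with hu'
  have h1 : u' ∈ U j k := F.w1 hij hki hkj hu
  have h2 : u * u' ∈ W i j := F.uuw hij hki.symm hu
  have h3 := F.QW hij q hq _ h2
  have h4 : cj q u ∈ U i k := F.KU hki.symm hqK hu
  have h5 : cj q u' ∈ U j k := F.KU hkj.symm hqK h1
  have h6 : u⁻¹ * cj q u = cm q (u * u') * (u' * (cj q u')⁻¹) := by
    have e1 : cj q u * cj q u' = cm q (u * u') * (u * u') := by rw [← cj_mul, cj_eq_cm]
    have e2 : cm q (u * u') * u = u * cm q (u * u') := by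
      rcases h3 with h | h
      · rw [h, one_mul, mul_one]
      · rw [h, Kr (F.UK hki.symm hu)]
    have e3 : u⁻¹ * cj q u = u⁻¹ * (cj q u * cj q u') * (cj q u')⁻¹ := by group
    rw [e3, e1, ← mul_assoc (cm q (u * u')), e2]
    group
  exact F.pp_of hij hki hkj (mul_mem (inv_mem hu) h4) (mul_mem h1 (inv_mem h5)) h3 h6

/-- (1.4) -/
theorem alt (hij : i ≠ j) (hki : k ≠ i) (hkj : k ≠ j) {y : G} (hy : y ∈ U i j) :
    y * cj (w j k) y = cj (w j k) y * y := by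
  have h1 : cj (w j k) y ∈ U i k := by
    rw [F.Usym]
    exact F.w1 hkj.symm hij hki.symm (F.Usym i j ▸ hy)
  have h2 := F.Wsq hkj.symm _ (F.uuw hkj.symm hij hy)
  set y' := cj (w j k) y
  have e1 : y * y' * (y * y') = cm y y' := by
    unfold cm
    rw [F.inv_self hij hy, F.inv_self hki.symm h1]
    group
  have h3 : cm y y' ∈ U i j := by
    rw [cm_eq']
    exact mul_mem hy (F.KU hij (F.UK hki.symm h1) (inv_mem hy))
  rw [e1] at h2
  rcases h2 with h | h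
  · exact cm_one_iff.1 h
  · rw [h, F.Usym] at h3
    exact absurd h3 (F.r_nmem hij.symm hkj hki)

/-- (1.6) -/
theorem ppQ (hij : i ≠ j) (hki : k ≠ i) (hkj : k ≠ j) {y : G} (hy : y ∈ U i k) (hq : y ∈ Q i j) :
    PP ε U i k j y := by
  have h1 : cj (w i j) y ∈ U j k := F.w1 hij hki hkj hy
  have h2 := F.QW hij y hq _ (F.wW hij)
  have e1 : cm y (w i j) = y * cj (w i j) y := by rw [cm_eq', F.inv_self hki.symm hy]
  refine F.pp_of hij hki hkj hy h1 h2 ?_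
  rw [e1, mul_assoc, F.Usq hkj.symm _ h1, mul_one]

/-- `c` centralises `U i j` -/
abbrev Cen (U : Fin n → Fin n → Subgroup G) (c : G) (i j : Fin n) : Prop :=
  ∀ y ∈ U i j, c * y = y * c

theorem cen_symm {c : G} (h : Cen U c i j) : Cen U c j i := by
  intro y hy
  exact h y (F.Usym i j ▸ hy)

/-- `C_{U_ik}(U_ij) = C_{U_ik}(U_jk)` -/
theorem cen_tri (hij : i ≠ j) (hki : k ≠ i) (hkj : k ≠ j) {u : G} (hu : u ∈ U i k)
    (hc : Cen U u i j) : Cen U u j k := by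
  intro y hy
  have h1 : cj (w i k) y ∈ U i j := F.w2 hki.symm hij.symm hkj.symm (F.Usym j k ▸ hy)
  have h2 := hc _ h1
  have h3 := congrArg (cj (w i k)) h2
  rw [cj_mul, cj_mul, F.cj_w_w hki.symm (F.UK hkj.symm hy), F.cj_w_self hki.symm hu] at h3
  exact h3

/-- conjugates of centralising elements -/
theorem cen_cj {a b : Fin n} (hij : i ≠ j) {c : G} (hc : Cen U c a b)
    {a' b' : Fin n} (hmap : ∀ y ∈ U a' b', cj (w i j) y ∈ U a b) (hab' : a' ≠ b') :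
    Cen U (cj (w i j) c) a' b' := by
  intro y hy
  have h1 := hc _ (hmap y hy)
  have h2 := congrArg (cj (w i j)) h1
  rw [cj_mul, cj_mul, F.cj_w_w hij (F.UK hab' hy)] at h2
  exact h2

end FrS

/-- every `Fr` is an `FrS` -/
theorem of_fr {ε : (Fin n → ZMod 2) → G} {U W Q : Fin n → Fin n → Subgroup G} {w : Fin n → Fin n → G}
    (F : Fr ε U W Q w) : FrS ε U W Q w where
  add := F.add
  eU := F.eU
  cU := F.cU
  cW := F.cW
  cQ := F.cQ
  Usym := F.Usym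
  Wsym := F.Wsym
  Qsym := F.Qsym
  UK := F.UK
  QA := F.QA
  Uab := F.Uab
  Usq := F.Usq
  UQ := F.UQ
  UQc := F.UQc
  WQ := F.WQ
  QW := F.QW
  Wsq := F.Wsq
  wW := F.wW
  wA := F.wA
  cw := F.cw
  core := fun hD c hc h1 h2 => F.core hD c hc h1 fun y hy => cm_one_iff.1 (F.inter _ (h2 y hy))
  eone := F.eone

end Cfsg.Agent.Omega.NSix.EngineS
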