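import Cfsg.Agent.Omega.NSix.Engine.Inst
import Cfsg.Agent.Omega.NSix.EngineS.ThmC
import Cfsg.Agent.Omega.NSix.EngineS.CoreAbs
import Cfsg.Agent.Omega.NSix.Free.Inter

/-!
# The instance of the frame `FrS` in the group: `Engine.Hyp` without the minimality of `V`

`HypS V P ε`: (H1) and an involution of `WP ε i j` (up to `⟨r_ij⟩`) which moves `V`.  `P` is any group which acts on `V`
as the symmetric group (e.g. `grp M i` for one summand of a sum of even-subset modules); no Sylow subgroup, no minimality.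
* `HypS.fr` : `FrS ε (UU ε) (W2 ε) (fun i j => o2 (NN ε i j)) w` for every choice of `w i j ∈ W2 ε i j` inducing `(i j)`;
* `HypS.core_gen`, `HypS.core_sg` : an element of some `o2 (NN ε a b)` which centralises `UU ε i j` and centralises
  `UU ε k l` (resp. modulo `Σ`) lies in `o2 (NN ε i j)`;
* `HypS.thC` : THEOREM C;
* `HypS.hq_of_comm`, `HypS.comm_transfer`, `HypS.of`.
(The text is that of `Engine/Inst.lean`, helper821, except `core_sg`.)
-/

set_option autoImplicit false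
set_option linter.unusedSectionVars false
set_option linter.unusedVariables false

namespace Cfsg.Agent.Omega.NSix.EngineS

open Subgroup Cfsg
open Cfsg.Agent.ZN (o2 zc)
open Cfsg.Agent.MinSimple.VModule (o2_le o2_isPGroup le_normalizer_o2 le_o2 mem_zc oddGen oddGen_def oddGen_le
  mem_oddGen oddGen_mono le_normalizer_oddGen normalizer_le_normalizer_oddGen)
open Cfsg.Agent.MinSimple.Geo (mem_o2_of_stab)
open Cfsg.Agent.Omega.S5.Def Cfsg.Agent.Omega.NSix.Base Cfsg.Agent.Omega.NSix.Basic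
open Cfsg.Agent.Omega.NSix.Zero
open Cfsg.Agent.Omega.NSix.Engine
open Cfsg.Agent.Omega.NSix.Free (SG mem_SG)
open Cfsg.Agent.Omega.TTn.Di (cm cj)
open Cfsg.Agent.Omega.TTn

universe u

variable {G : Type u} [Group G] {n : ℕ} {V P : Subgroup G} {ε : (Fin n → ZMod 2) → G}

/-- the hypotheses -/
structure HypS (V P : Subgroup G) (ε : (Fin n → ZMod 2) → G) : Prop where
  n5 : 5 ≤ n
  odd : Odd n
  ev : EvenSet n V P ε
  pair : ∀ i j k, i ≠ j → k ≠ i → k ≠ j → ∀ q ∈ o2 (NN ε i j), q * zz ε k = zz ε k * q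
  le : ∀ i j, i ≠ j → o2 (NN ε i j) ≤ P
  stab : ∀ i j, i ≠ j → WP ε i j ≤ o2 (NN ε i j)
  mov : ∃ i j, i ≠ j ∧ ∃ g ∈ WP ε i j, g * g ∈ zpowers (rr ε i j) ∧ ¬ g ∈ centralizer (V : Set G)

theorem HypS.of_hyp (h : Hyp V P ε) : HypS V P ε := ⟨h.n5, h.odd, h.ev, h.pair, h.le, h.stab, h.mov⟩

namespace HypS

variable (h : HypS V P ε) {i j k l : Fin n}
include h

theorem n3 : 3 ≤ n := le_trans (by norm_num) h.n5

theorem r_mem_NN (i j : Fin n) : rr ε i j ∈ NN ε i j := mem_NN.2 rfl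

theorem W2_leQ (hij : i ≠ j) : W2 ε i j ≤ o2 (NN ε i j) := (W2_le i j).trans (h.stab i j hij)

/-- `WP` acts on `O₂(N)` -/
theorem wp_cases (_ : i ≠ j) {q x : G} (hq : q ∈ o2 (NN ε i j)) (hx : x ∈ WP ε i j) :
    cm q x = 1 ∨ cm q x = rr ε i j := by
  refine zpow_cases (rr_sq h.ev i j) ?_
  have h1 := inv_mem (hx.2 q hq)
  have h2 : (x * q * x⁻¹ * q⁻¹)⁻¹ = cm q x := by unfold cm; group
  rwa [h2] at h1

/-- the squares -/
theorem W2_sq (hij : i ≠ j) {x : G} (hx : x ∈ W2 ε i j) : x * x = 1 ∨ x * x = rr ε i j := by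
  refine zpow_cases (rr_sq h.ev i j) ?_
  have hr : ∀ {a z : G}, a ∈ WP ε i j → z ∈ zpowers (rr ε i j) → a * z = z * a := by
    intro a z ha hz
    obtain ⟨k, rfl⟩ := mem_zpowers_iff.1 hz
    have h1 : Commute a (rr ε i j) := mem_NN.1 ha.1
    exact h1.zpow_right k
  unfold W2 at hx
  induction hx using closure_induction with
  | mem x hx => exact hx.2
  | one => rw [mul_one]; exact one_mem _
  | mul x y hx' hy' hx hy =>
    have hxW : x ∈ WP ε i j := W2_le i j hx'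
    have hyW : y ∈ WP ε i j := W2_le i j hy'
    have h1 := hyW.2 x (h.stab i j hij hxW)
    have h2 : x * y * (x * y) = x * (y * x * y⁻¹ * x⁻¹) * x * (y * y) := by group
    rw [h2, hr hxW h1, mul_assoc (y * x * y⁻¹ * x⁻¹)]
    exact mul_mem (mul_mem h1 hx) hy
  | inv x _ hx =>
    have h1 : x⁻¹ * x⁻¹ = (x * x)⁻¹ := by group
    rw [h1]; exact inv_mem hx

/-- `O₂(N)` acts as `⟨(i j)⟩` -/
theorem QA (hij : i ≠ j) {q : G} (hqQ : q ∈ o2 (NN ε i j)) : Acts ε q 1 ∨ Acts ε q (Equiv.swap i j) := by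
  obtain ⟨σ, hσ⟩ := h.ev.perm q (h.le i j hij hqQ)
  have hfix : ∀ k, k ≠ i → k ≠ j → σ k = k := by
    intro k h1 h2
    apply h.ev.single_inj h.n3
    have h3 := h.pair i j k hij h1 h2 q hqQ
    have h4 := zz_conj hσ k
    rw [h3, mul_inv_cancel_right] at h4
    exact h4.symm
  have hpres : σ i = i ∨ σ i = j := by
    by_contra hc
    rw [not_or] at hc
    have h1 := hfix _ hc.1 hc.2
    exact hc.1 (σ.injective h1)
  have hpres' : σ j = i ∨ σ j = j := by
    by_contra hc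
    rw [not_or] at hc
    have h1 := hfix _ hc.1 hc.2
    exact hc.2 (σ.injective h1)
  rcases hpres with h1 | h1
  · left
    have h2 : σ j = j := hpres'.resolve_left fun h2 => hij (σ.injective (h1.trans h2.symm))
    have h3 : σ = 1 := by
      ext k
      by_cases hk1 : k = i
      · rw [hk1, h1]; rfl
      by_cases hk2 : k = j
      · rw [hk2, h2]; rfl
      rw [hfix k hk1 hk2]; rfl
    rwa [h3] at hσ
  · right
    have h2 : σ j = i := hpres'.resolve_right fun h2 => hij (σ.injective (h1.trans h2.symm))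
    have h3 : σ = Equiv.swap i j := by
      ext k
      by_cases hk1 : k = i
      · rw [hk1, h1, Equiv.swap_apply_left]
      by_cases hk2 : k = j
      · rw [hk2, h2, Equiv.swap_apply_right]
      rw [hfix k hk1 hk2, Equiv.swap_apply_of_ne_of_ne hk1 hk2]
    rwa [h3] at hσ

/-- `O₂(N)` commutes with `U` -/
theorem UQc (hij : i ≠ j) {q : G} (hq : q ∈ o2 (NN ε i j)) {u : G} (hu : u ∈ UU ε i j) : q * u = u * q := by
  unfold UU at hu
  induction hu using closure_induction generalizing q with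
  | mem x hx =>
    obtain ⟨g, hg, k, h1, h2, rfl⟩ := hx
    have h3 : g⁻¹ * q * g ∈ o2 (NN ε i j) := by
      have := (mem_normalizer_iff.mp (le_normalizer_o2 _ (inv_mem hg)) q).mp hq
      rwa [inv_inv] at this
    have h4 := h.pair i j k hij h1 h2 _ h3
    calc q * (g * zz ε k * g⁻¹) = g * ((g⁻¹ * q * g) * zz ε k) * g⁻¹ := by group
      _ = g * (zz ε k * (g⁻¹ * q * g)) * g⁻¹ := by rw [h4]
      _ = _ := by group
  | one => rw [one_mul, mul_one]
  | mul x y _ _ hx hy => rw [← mul_assoc, hx hq, mul_assoc, hy hq, mul_assoc]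
  | inv x _ hx => rw [mul_inv_eq_iff_eq_mul, mul_assoc, hx hq, inv_mul_cancel_left]

theorem key_swap (hij : i ≠ j) (y : Fin n → ZMod 2) {p : G} (hp : Acts ε p (Equiv.swap i j)) :
    p * ε y * p⁻¹ = ε y ∨ p * ε y * p⁻¹ = ε y * rr ε i j := by
  rw [hp y]
  have h1 : y ∘ (Equiv.swap i j).symm = y + (y i + y j) • (Pi.single i 1 + Pi.single j 1) := by
    funext k
    rw [Function.comp_apply, Equiv.symm_swap, Pi.add_apply, Pi.smul_apply, Pi.add_apply]
    by_cases h1 : k = i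
    · subst h1
      rw [Equiv.swap_apply_left, Pi.single_eq_same, Pi.single_eq_of_ne hij, add_zero,
        smul_eq_mul, mul_one, ← add_assoc, Tv.z2_add, zero_add]
    by_cases h2 : k = j
    · subst h2
      rw [Equiv.swap_apply_right, Pi.single_eq_same, Pi.single_eq_of_ne h1, zero_add,
        smul_eq_mul, mul_one, add_comm (y i), ← add_assoc, Tv.z2_add, zero_add]
    · rw [Equiv.swap_apply_of_ne_of_ne h1 h2, Pi.single_eq_of_ne h1, Pi.single_eq_of_ne h2,
        add_zero, smul_zero, add_zero]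
  rw [h1, h.ev.add]
  rcases Tv.z2 (y i + y j) with h2 | h2
  · left
    rw [h2, zero_smul, h.ev.zero, mul_one]
  · right
    rw [h2, one_smul, h.ev.add]
    rfl

theorem V_le (hij : i ≠ j) : V ≤ W2 ε i j := by
  intro v hv
  have hsq : v * v ∈ zpowers (rr ε i j) := by rw [h.ev.sq_mem hv]; exact one_mem _
  refine W2_of ?_ hsq
  rw [mem_WP]
  have hvN : v ∈ NN ε i j := by
    rw [mem_NN]
    exact h.ev.comm_mem hv (rr_mem h.ev i j)
  refine ⟨hvN, fun q hqQ => ?_⟩
  obtain ⟨x, rfl⟩ := h.ev.surj v hv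
  have hcase : q * ε x * q⁻¹ = ε x ∨ q * ε x * q⁻¹ = ε x * rr ε i j := by
    rcases h.QA hij hqQ with h1 | h1
    · left; exact h1 x
    · exact h.key_swap hij x h1
  rcases hcase with h1 | h1
  · have h2 : ε x * q * (ε x)⁻¹ * q⁻¹ = 1 := by
      calc ε x * q * (ε x)⁻¹ * q⁻¹ = ε x * (q * ε x * q⁻¹)⁻¹ := by group
        _ = 1 := by rw [h1, mul_inv_cancel]
    rw [h2]
    exact one_mem _
  · have h2 : ε x * q * (ε x)⁻¹ * q⁻¹ = (rr ε i j)⁻¹ := by
      have h3 : ε x * rr ε i j = rr ε i j * ε x := h.ev.comm_mem (h.ev.mem x) (rr_mem h.ev i j)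
      calc ε x * q * (ε x)⁻¹ * q⁻¹ = ε x * (q * ε x * q⁻¹)⁻¹ := by group
        _ = _ := by rw [h1, h3]; group
    rw [h2]
    exact inv_mem (mem_zpowers _)

theorem U_leW (hij : i ≠ j) : UU ε i j ≤ W2 ε i j := by
  unfold UU
  rw [closure_le]
  rintro x ⟨g, hg, k, -, -, rfl⟩
  exact W2_norm hg (h.V_le hij (zz_mem h.ev k))

theorem UQ (hij : i ≠ j) : UU ε i j ≤ o2 (NN ε i j) := (h.U_leW hij).trans (h.W2_leQ hij)

theorem UK (hij : i ≠ j) : UU ε i j ≤ KK ε := by
  intro u hu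
  refine mem_KK'.2 fun x => ?_
  exact (h.UQc hij (h.W2_leQ hij (h.V_le hij (h.ev.mem x))) hu).symm

theorem Uab (hij : i ≠ j) {u v : G} (hu : u ∈ UU ε i j) (hv : v ∈ UU ε i j) : u * v = v * u :=
  h.UQc hij (h.UQ hij hu) hv

theorem Usq (hij : i ≠ j) {u : G} (hu : u ∈ UU ε i j) : u * u = 1 := by
  have hu' : u ∈ closure {x | ∃ g ∈ NN ε i j, ∃ k, k ≠ i ∧ k ≠ j ∧ x = g * zz ε k * g⁻¹} := hu
  induction hu' using closure_induction with
  | mem x hx =>
    obtain ⟨g, -, k, -, -, rfl⟩ := hx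
    calc g * zz ε k * g⁻¹ * (g * zz ε k * g⁻¹) = g * (zz ε k * zz ε k) * g⁻¹ := by group
      _ = 1 := by rw [zz_sq h.ev, mul_one, mul_inv_cancel]
  | one => rw [mul_one]
  | mul x y hx' hy' hx hy =>
    have h1 : x * y = y * x := h.Uab hij hx' hy'
    calc x * y * (x * y) = x * (y * x) * y := by group
      _ = (x * x) * (y * y) := by rw [← h1]; group
      _ = 1 := by rw [hx hx', hy hy', mul_one]
  | inv x hx' hx =>
    have h1 : x⁻¹ * x⁻¹ = (x * x)⁻¹ := by group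
    rw [h1, hx hx', inv_one]

theorem exists_w (hij : i ≠ j) : ∃ w ∈ W2 ε i j, Acts ε w (Equiv.swap i j) := by
  obtain ⟨i0, j0, hij0, g, hg, hg2, hgV⟩ := h.mov
  have hgs : Acts ε g (Equiv.swap i0 j0) :=
    (h.QA hij0 (h.stab i0 j0 hij0 hg)).resolve_left fun h1 => hgV (h.ev.acts_one_iff.mp h1)
  obtain ⟨σ, h1, h2, -⟩ := exists_perm hij0 hij
  obtain ⟨p, -, hp⟩ := h.ev.full σ
  refine ⟨p * g * p⁻¹, ?_, ?_⟩
  · have := W2_conj hp (W2_of hg hg2)
    rwa [h1, h2] at this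
  · have h3 := hp.conj hgs
    have h4 : σ * Equiv.swap i0 j0 * σ⁻¹ = Equiv.swap i j := by
      rw [← Equiv.swap_apply_apply, h1, h2]
    rwa [h4] at h3

theorem eU (hij : i ≠ j) (x : Fin n → ZMod 2) : ε x ∈ UU ε i j ↔ x i = x j := by
  constructor
  · intro hx
    obtain ⟨w, hw, hwa⟩ := h.exists_w hij
    have h1 := h.UQc hij (h.W2_leQ hij hw) hx
    have h2 := hwa x
    rw [h1, mul_inv_cancel_right, h.ev.eq_iff] at h2
    rcases h2 with h2 | h2
    · have h3 := congrFun h2 i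
      rw [Function.comp_apply, Equiv.symm_swap, Equiv.swap_apply_left] at h3
      exact h3
    · exfalso
      obtain ⟨m, h3, h4, -, -⟩ := exists_fifth h.n5 i j i j
      have h5 := congrFun h2 m
      rw [Pi.add_apply, Function.comp_apply, Equiv.symm_swap, Equiv.swap_apply_of_ne_of_ne h3 h4,
        Pi.one_apply] at h5
      exact one_ne_zero (left_eq_add.1 h5)
  · intro hx
    have key : ∀ y : Fin n → ZMod 2, y i = 0 → y j = 0 → ε y ∈ UU ε i j := by
      intro y hy1 hy2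
      have h1 : y = ∑ k ∈ Finset.univ.filter (fun k => y k ≠ 0), Pi.single k 1 := by
        funext m
        rw [Finset.sum_apply]
        by_cases hm : y m = 0
        · rw [hm, Finset.sum_eq_zero]
          intro k hk
          have : m ≠ k := by
            rintro rfl
            exact (Finset.mem_filter.mp hk).2 hm
          exact Pi.single_eq_of_ne this _
        · rw [Finset.sum_eq_single m]
          · rw [Pi.single_eq_same]; exact Tv.z2_one hm
          · intro k _ hk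
            exact Pi.single_eq_of_ne (Ne.symm hk) _
          · intro h0
            exfalso
            apply h0
            rw [Finset.mem_filter]
            exact ⟨Finset.mem_univ _, hm⟩
      have h2 : ∀ F : Finset (Fin n), i ∉ F → j ∉ F → ε (∑ k ∈ F, Pi.single k 1) ∈ UU ε i j := by
        intro F
        induction F using Finset.induction_on with
        | empty => intro _ _; rw [Finset.sum_empty, h.ev.zero]; exact one_mem _
        | insert k F hk ih =>
          intro h3 h4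
          rw [Finset.mem_insert, not_or] at h3 h4
          rw [Finset.sum_insert hk, h.ev.add]
          exact mul_mem (zz_mem_UU (Ne.symm h3.1) (Ne.symm h4.1)) (ih h3.2 h4.2)
      rw [h1]
      apply h2
      · intro h3
        exact (Finset.mem_filter.mp h3).2 hy1
      · intro h3
        exact (Finset.mem_filter.mp h3).2 hy2
    rcases Tv.z2 (x i) with h1 | h1
    · exact key x h1 (by rw [← hx, h1])
    · have h2 := key (x + 1) (by rw [Pi.add_apply, h1, Pi.one_apply]; decide)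
        (by rw [Pi.add_apply, ← hx, h1, Pi.one_apply]; decide)
      rwa [h.ev.add, h.ev.one, mul_one] at h2

theorem rr_mem_U (hij : i ≠ j) : rr ε i j ∈ UU ε i j := rr_self_mem_UU h.ev hij

theorem C_le (hij : i ≠ j) : centralizer (UU ε i j : Set G) ≤ NN ε i j := fun x hx =>
  mem_NN.2 (mem_centralizer_iff.1 hx _ (h.rr_mem_U hij)).symm

theorem C_le' (hD : D4 i j k l) : centralizer (UU ε i j : Set G) ≤ NN ε k l := fun x hx =>
  mem_NN.2 (mem_centralizer_iff.1 hx _ (rr_mem_UU hD.ik.symm hD.jk.symm hD.il.symm hD.jl.symm)).symm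

theorem Q_le (hD : D4 i j k l) : o2 (NN ε k l) ≤ NN ε i j := by
  intro q hq
  have h1 := h.pair k l i hD.kl hD.ik hD.il q hq
  have h2 := h.pair k l j hD.kl hD.jk hD.jl q hq
  rw [mem_NN]
  unfold rr
  rw [← mul_assoc, h1, mul_assoc, h2, ← mul_assoc]

/-- (K3) -/
theorem inf_le (hD : D4 i j k l) {x : G} (hx : x ∈ W2 ε k l) (hc : x ∈ centralizer (UU ε i j : Set G)) :
    x ∈ o2 (NN ε i j) := by
  set C := centralizer (UU ε i j : Set G) with hC
  -- `W ∩ C ≤ O₂(C)`
  have h1 : W2 ε k l ⊓ C ≤ o2 C := by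
    refine le_o2 inf_le_right ((o2_isPGroup (NN ε k l)).to_le (inf_le_left.trans (h.W2_leQ hD.kl))) ?_
    intro g hg
    have key : ∀ g ∈ C, ∀ y ∈ W2 ε k l ⊓ C, g * y * g⁻¹ ∈ W2 ε k l ⊓ C := fun g hg y hy =>
      mem_inf.2 ⟨W2_norm (h.C_le' hD hg) hy.1, mul_mem (mul_mem hg hy.2) (inv_mem hg)⟩
    rw [mem_normalizer_iff]
    refine fun y => ⟨key g hg y, fun hy => ?_⟩
    have h2 := key g⁻¹ (inv_mem hg) _ hy
    have h3 : g⁻¹ * (g * y * g⁻¹) * g⁻¹⁻¹ = y := by group
    rwa [h3] at h2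
  have h2 : o2 C ≤ o2 (NN ε i j) := by
    refine le_o2 ((o2_le C).trans (h.C_le hD.ij)) (o2_isPGroup C) ?_
    intro g hg
    have h3 : g ∈ normalizer (C : Set G) := by
      have key : ∀ g ∈ NN ε i j, ∀ y ∈ C, g * y * g⁻¹ ∈ C := fun g hg y hy => cen_norm hg hy
      rw [mem_normalizer_iff]
      refine fun y => ⟨key g hg y, fun hy => ?_⟩
      have h2 := key g⁻¹ (inv_mem hg) _ hy
      have h3 : g⁻¹ * (g * y * g⁻¹) * g⁻¹⁻¹ = y := by group
      rwa [h3] at h2
    exact Cfsg.Agent.Omega.NSix.End.Six.norm_o2 C h3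
  exact h2 (h1 (mem_inf.2 ⟨hx, hc⟩))

/-- `[C_G(U_ij), W_kl] ≤ Q_ij` -/
theorem cw (hD : D4 i j k l) {c : G} (hc : c ∈ centralizer (UU ε i j : Set G)) {x : G} (hx : x ∈ W2 ε k l) :
    cm c x ∈ o2 (NN ε i j) := by
  have hxN : x ∈ NN ε i j := h.Q_le hD (h.W2_leQ hD.kl hx)
  refine h.inf_le hD ?_ ?_
  · exact mul_mem (W2_norm (h.C_le' hD hc) hx) (inv_mem hx)
  · have h2 := cen_norm hxN (inv_mem hc)
    have e : cm c x = c * (x * c⁻¹ * x⁻¹) := by unfold cm; group
    rw [e]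
    exact mul_mem hc h2

open Cfsg.Agent.Omega.NSix.Engine.Hyp (OO OO_norm OO_acts)

theorem gen_le [Finite G] (hD : D4 i j k l) :
    (P : Set G) ⊆ closure (Engine.Hyp.FF ε i j k l ∪ (normalizer (OO ε i j k l : Set G) : Set G)) := by
  set K₀ := closure (Engine.Hyp.FF ε i j k l ∪ (normalizer (OO ε i j k l : Set G) : Set G)) with hK₀
  let H : Subgroup (Equiv.Perm (Fin n)) :=
    { carrier := {p | ∃ g ∈ K₀, Acts ε g p}
      one_mem' := ⟨1, one_mem _, Acts.one⟩
      mul_mem' := by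
        rintro p q ⟨g, hg, hi⟩ ⟨g', hg', hi'⟩
        exact ⟨g * g', mul_mem hg hg', hi.mul hi'⟩
      inv_mem' := by
        rintro p ⟨g, hg, hi⟩
        exact ⟨g⁻¹, inv_mem hg, hi.inv⟩ }
  have e1 : ∀ a b, a ≠ i → a ≠ j → b ≠ i → b ≠ j → a ≠ b → Equiv.swap a b ∈ H := by
    intro a b ha1 ha2 hb1 hb2 hab
    obtain ⟨w, hw, hwi⟩ := h.exists_w hD.kl
    obtain ⟨σ, h1, h2, h3⟩ := exists_perm hD.kl hab
    obtain ⟨g, -, hg⟩ := h.ev.full σ
    have hgN : g ∈ NN ε i j := by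
      rw [mem_NN', rr_conj hg, h3 i hD.ik hD.il ha1.symm hb1.symm, h3 j hD.jk hD.jl ha2.symm hb2.symm]
    refine ⟨g * w * g⁻¹, subset_closure (Or.inl (Or.inl ⟨g, hgN, w, hw, rfl⟩)), ?_⟩
    have h4 := hg.conj hwi
    rwa [← Equiv.swap_apply_apply, h1, h2] at h4
  have e2 : Equiv.swap i j ∈ H := by
    obtain ⟨g, -, hg⟩ := h.ev.full (Equiv.swap i j)
    refine ⟨g, subset_closure (Or.inr (OO_acts hg fun c hc => mem_inf.2 ⟨?_, ?_⟩)), hg⟩
    · have h1 := cen_conj hg hc.1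
      rwa [Equiv.swap_apply_left, Equiv.swap_apply_right, UU_symm h.ev] at h1
    · have h1 := cen_conj hg hc.2
      rwa [Equiv.swap_apply_of_ne_of_ne hD.ik.symm hD.jk.symm,
        Equiv.swap_apply_of_ne_of_ne hD.il.symm hD.jl.symm] at h1
  have t1 : (Equiv.swap i k * Equiv.swap j l) i = k := by
    rw [Equiv.Perm.mul_apply, Equiv.swap_apply_of_ne_of_ne hD.ij hD.il, Equiv.swap_apply_left]
  have t2 : (Equiv.swap i k * Equiv.swap j l) j = l := by
    rw [Equiv.Perm.mul_apply, Equiv.swap_apply_left, Equiv.swap_apply_of_ne_of_ne hD.il.symm hD.kl.symm]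
  have t3 : (Equiv.swap i k * Equiv.swap j l) k = i := by
    rw [Equiv.Perm.mul_apply, Equiv.swap_apply_of_ne_of_ne hD.jk.symm hD.kl, Equiv.swap_apply_right]
  have t4 : (Equiv.swap i k * Equiv.swap j l) l = j := by
    rw [Equiv.Perm.mul_apply, Equiv.swap_apply_right, Equiv.swap_apply_of_ne_of_ne hD.ij.symm hD.jk]
  have e3 : Equiv.swap i k * Equiv.swap j l ∈ H := by
    obtain ⟨g, -, hg⟩ := h.ev.full (Equiv.swap i k * Equiv.swap j l)
    refine ⟨g, subset_closure (Or.inr (OO_acts hg fun c hc => mem_inf.2 ⟨?_, ?_⟩)), hg⟩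
    · have h1 := cen_conj hg hc.2
      rwa [t3, t4] at h1
    · have h1 := cen_conj hg hc.1
      rwa [t1, t2] at h1
  obtain ⟨m, hmi, hmj, hmk, hml⟩ := exists_fifth h.n5 i j k l
  have e4 : Equiv.swap i m ∈ H := by
    have h1 := H.mul_mem (H.mul_mem e3 (e1 k m hD.ik.symm hD.jk.symm hmi hmj hmk.symm)) (H.inv_mem e3)
    rw [← Equiv.swap_apply_apply, t3, Equiv.Perm.mul_apply, Equiv.swap_apply_of_ne_of_ne hmj hml,
      Equiv.swap_apply_of_ne_of_ne hmi hmk] at h1
    exact h1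
  have e5 : ∀ a, Equiv.swap i a ∈ H := by
    intro a
    by_cases hai : a = i
    · rw [hai, Equiv.swap_self]; exact one_mem H
    by_cases haj : a = j
    · rw [haj]; exact e2
    by_cases ham : a = m
    · rw [ham]; exact e4
    exact SubmonoidClass.swap_mem_trans H e4 (e1 m a hmi hmj hai haj (Ne.symm ham))
  have hH : H = ⊤ := by
    rw [eq_top_iff, ← Equiv.Perm.closure_isSwap, closure_le]
    rintro _ ⟨a, b, -, rfl⟩
    refine SubmonoidClass.swap_mem_trans H (b := i) ?_ (e5 b)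
    rw [Equiv.swap_comm]
    exact e5 a
  intro x hx
  obtain ⟨p, hp⟩ := h.ev.perm x hx
  obtain ⟨g, hg, hi⟩ : p ∈ H := by rw [hH]; exact mem_top _
  have h1 := hp.mul hi.inv
  rw [mul_inv_cancel] at h1
  have h3 : x * g⁻¹ ∈ K₀ := subset_closure (Or.inr (OO_acts h1 fun c hc =>
    mem_inf.2 ⟨cen_conj h1 hc.1, cen_conj h1 hc.2⟩))
  have h4 := mul_mem h3 hg
  rwa [inv_mul_cancel_right] at h4

/-- **(2.4)**: an element of `O₂(C_G(r_ab))` centralising `U_ij` and `U_kl` is in `O₂(C_G(r_ij))` -/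
theorem core_gen [Finite G] (hD : D4 i j k l) {a b : Fin n} (hab : a ≠ b) {c : G}
    (hc : c ∈ o2 (NN ε a b)) (h1 : ∀ y ∈ UU ε i j, c * y = y * c) (h2 : ∀ y ∈ UU ε k l, c * y = y * c) :
    c ∈ o2 (NN ε i j) := by
  obtain ⟨σ, s1, s2, -⟩ := exists_perm hD.ij hab
  obtain ⟨p, hp, hps⟩ := h.ev.full σ
  have hf : p⁻¹ * c * p ∈ o2 (NN ε i j) := by
    have h3 := o2_NN_conj hps.inv hc
    have e : ∀ m, σ⁻¹ (σ m) = m := fun m => σ.symm_apply_apply m
    rwa [← s1, ← s2, e, e, inv_inv] at h3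
  obtain ⟨q, hq⟩ := o2_isPGroup _ ⟨c, hc⟩
  have hk' : c ^ 2 ^ q = 1 := congrArg Subtype.val hq
  have hCi : ∀ {x : G}, x ∈ OO ε i j k l → x ∈ NN ε k l := fun hx =>
    h.C_le hD.kl hx.2
  refine DiCoreAbs.core_abs (N := NN ε i j) (C := centralizer (UU ε i j : Set G)) (O := OO ε i j k l)
    (L := P) (F := Engine.Hyp.FF ε i j k l) (l := p) (f := p⁻¹ * c * p) (c := c) (k := q) (h.C_le hD.ij) ?_ inf_le_left ?_ ?_ ?_ ?_
    (h.gen_le hD) hp (Or.inr hf) (by group) ?_ hk'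
  · intro g hg
    exact DiCoreAbs.mem_norm_of fun x hx => cen_norm hg hx
  · intro g hg
    exact OO_norm (h.C_le hD.ij hg) (h.C_le' hD hg)
  · intro g hg
    refine OO_norm (o2_le _ hg) ?_
    exact h.Q_le ⟨hD.kl, hD.ik.symm, hD.jk.symm, hD.il.symm, hD.jl.symm, hD.ij⟩ hg
  · rintro _ (⟨g, hg, w, hw, rfl⟩ | hx)
    · exact mul_mem (mul_mem hg (h.Q_le hD (h.W2_leQ hD.kl hw))) (inv_mem hg)
    · exact o2_le _ hx
  · rintro _ (⟨g, hg, w, hw, rfl⟩ | hx) c hc
    · have hc' : g⁻¹ * c * g ∈ centralizer (UU ε i j : Set G) := by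
        have := cen_norm (inv_mem hg) hc.1
        rwa [inv_inv] at this
      set c' := g⁻¹ * c * g with hc'd
      have h3 : w * c' * w⁻¹ * c'⁻¹ ∈ o2 (NN ε i j) := by
        have h4 := inv_mem (h.cw hD hc' hw)
        have h5 : (cm c' w)⁻¹ = w * c' * w⁻¹ * c'⁻¹ := by unfold cm; group
        rwa [h5] at h4
      have h4 := (mem_normalizer_iff.1 (le_normalizer_o2 _ hg) _).1 h3
      have h5 : g * (w * c' * w⁻¹ * c'⁻¹) * g⁻¹ = g * w * g⁻¹ * c * (g * w * g⁻¹)⁻¹ * c⁻¹ := by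
        rw [hc'd]; group
      rwa [h5] at h4
    · rename_i x
      have h3 := (mem_normalizer_iff.1 (le_normalizer_o2 _ (h.C_le hD.ij hc.1)) _).1 (inv_mem hx)
      have h4 : x * c * x⁻¹ * c⁻¹ = x * (c * x⁻¹ * c⁻¹) := by group
      rw [h4]
      exact mul_mem hx h3
  · exact mem_inf.2 ⟨mem_centralizer_iff.2 fun y hy => (h1 y hy).symm,
      mem_centralizer_iff.2 fun y hy => (h2 y hy).symm⟩

/-- `(H2)` from the commuting of disjoint `UU`'s -/
theorem hq_of_comm [Finite G] (hcomm : ∀ {i j k l : Fin n}, D4 i j k l → ∀ u ∈ UU ε i j, ∀ y ∈ UU ε k l, u * y = y * u)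
    (hD : D4 i j k l) : UU ε i j ≤ o2 (NN ε k l) := by
  intro u hu
  have hD' : D4 k l i j := ⟨hD.kl, hD.ik.symm, hD.jk.symm, hD.il.symm, hD.jl.symm, hD.ij⟩
  exact h.core_gen hD' hD.ij (h.UQ hD.ij hu) (fun y hy => hcomm hD u hu y hy)
    (fun y hy => h.Uab hD.ij hu hy)

/-- one non-commuting pair makes all of them non-commuting -/
theorem comm_transfer {a b c d : Fin n} (hD : D4 i j k l) (hD' : D4 a b c d)
    (hcomm : ∀ u ∈ UU ε i j, ∀ y ∈ UU ε k l, u * y = y * u) :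
    ∀ u ∈ UU ε a b, ∀ y ∈ UU ε c d, u * y = y * u := by
  -- a permutation with `a ↦ i`, `b ↦ j`, `c ↦ k`, `d ↦ l`
  obtain ⟨σ, s1, s2, -⟩ := exists_perm hD'.ij hD.ij
  have hc1 : σ c ≠ i := fun e => hD'.ik (σ.injective (s1.trans e.symm))
  have hc2 : σ c ≠ j := fun e => hD'.jk (σ.injective (s2.trans e.symm))
  have hd1 : σ d ≠ i := fun e => hD'.il (σ.injective (s1.trans e.symm))
  have hd2 : σ d ≠ j := fun e => hD'.jl (σ.injective (s2.trans e.symm))
  have hcd : σ c ≠ σ d := fun e => hD'.kl (σ.injective e)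
  obtain ⟨τ, t1, t2, t3⟩ := exists_perm hcd hD.kl
  have ti : τ i = i := t3 i hc1.symm hd1.symm hD.ik hD.il
  have tj : τ j = j := t3 j hc2.symm hd2.symm hD.jk hD.jl
  obtain ⟨g, -, hg⟩ := h.ev.full (τ * σ)
  have m1 : (τ * σ) a = i := by rw [Equiv.Perm.mul_apply, s1, ti]
  have m2 : (τ * σ) b = j := by rw [Equiv.Perm.mul_apply, s2, tj]
  have m3 : (τ * σ) c = k := by rw [Equiv.Perm.mul_apply, t1]
  have m4 : (τ * σ) d = l := by rw [Equiv.Perm.mul_apply, t2]
  intro u hu y hy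
  have h1 := UU_conj hg hu
  have h2 := UU_conj hg hy
  rw [m1, m2] at h1
  rw [m3, m4] at h2
  have h3 := hcomm _ h1 _ h2
  have h4 : g * (u * y) * g⁻¹ = g * (y * u) * g⁻¹ := by
    calc g * (u * y) * g⁻¹ = g * u * g⁻¹ * (g * y * g⁻¹) := by group
      _ = _ := h3
      _ = _ := by group
  exact mul_left_cancel (mul_right_cancel h4)

/-- the elements of `C_G(U_ij)` which centralise `U_kl` modulo `Σ` -/
def O1 (ε : (Fin n → ZMod 2) → G) (i j k l : Fin n) (hN : centralizer (UU ε i j : Set G) ≤ NN ε k l)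
    (hij : i ≠ j) : Subgroup G where
  carrier := {c | c ∈ centralizer (UU ε i j : Set G) ∧ ∀ y ∈ UU ε k l, cm c y ∈ SG ε}
  one_mem' := ⟨one_mem _, fun y _ => by
    have : cm 1 y = 1 := by unfold cm; group
    rw [this]; exact one_mem _⟩
  mul_mem' := by
    rintro a b ⟨ha, ha1⟩ ⟨hb, hb1⟩
    refine ⟨mul_mem ha hb, fun y hy => ?_⟩
    have h1 := hb1 y hy
    have h2 : a * cm b y = cm b y * a := (mem_centralizer_iff.1 ha _ (h1 i j hij)).symm
    have h3 : cm (a * b) y = (a * cm b y * a⁻¹) * cm a y := by unfold cm; group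
    rw [h3, h2, mul_inv_cancel_right]
    exact mul_mem h1 (ha1 y hy)
  inv_mem' := by
    rintro a ⟨ha, ha1⟩
    refine ⟨inv_mem ha, fun y hy => ?_⟩
    have hy' : a⁻¹ * y * a ∈ UU ε k l := by
      have := UU_normal (inv_mem (hN ha)) hy
      rwa [inv_inv] at this
    have h1 := ha1 _ hy'
    have h3 : cm a⁻¹ y = (cm a (a⁻¹ * y * a))⁻¹ := by unfold cm; group
    rw [h3]
    exact inv_mem h1

/-- **(2.4)**, the `Σ`-version -/
theorem core_sg [Finite G] (hD : D4 i j k l) {a b : Fin n} (hab : a ≠ b) {c : G}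
    (hc : c ∈ o2 (NN ε a b)) (h1 : ∀ y ∈ UU ε i j, c * y = y * c) (h2 : ∀ y ∈ UU ε k l, cm c y ∈ SG ε) :
    c ∈ o2 (NN ε i j) := by
  obtain ⟨σ, s1, s2, -⟩ := exists_perm hD.ij hab
  obtain ⟨p, hp, hps⟩ := h.ev.full σ
  have hf : p⁻¹ * c * p ∈ o2 (NN ε i j) := by
    have h3 := o2_NN_conj hps.inv hc
    have e : ∀ m, σ⁻¹ (σ m) = m := fun m => σ.symm_apply_apply m
    rwa [← s1, ← s2, e, e, inv_inv] at h3
  obtain ⟨q, hq⟩ := o2_isPGroup _ ⟨c, hc⟩
  have hk' : c ^ 2 ^ q = 1 := congrArg Subtype.val hq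
  have hN : centralizer (UU ε i j : Set G) ≤ NN ε k l := h.C_le' hD
  set O := O1 ε i j k l hN hD.ij with hO
  have hOC : O ≤ centralizer (UU ε i j : Set G) := fun _ hx => hx.1
  -- `C` normalises `O`
  have hCO : centralizer (UU ε i j : Set G) ≤ normalizer (O : Set G) := by
    intro g hg
    refine DiCoreAbs.mem_norm_of fun x hx => ⟨mul_mem (mul_mem hg hx.1) (inv_mem hg), fun y hy => ?_⟩
    have hy' : g⁻¹ * y * g ∈ UU ε k l := by
      have := UU_normal (inv_mem (hN hg)) hy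
      rwa [inv_inv] at this
    have h3 := hx.2 _ hy'
    have h4 : g * cm x (g⁻¹ * y * g) = cm x (g⁻¹ * y * g) * g := (mem_centralizer_iff.1 hg _ (h3 i j hD.ij)).symm
    have h5 : cm (g * x * g⁻¹) y = g * cm x (g⁻¹ * y * g) * g⁻¹ := by unfold cm; group
    rw [h5, h4, mul_inv_cancel_right]
    exact h3
  -- `O²(O) = O²(C_G(U_ij U_kl))`
  have hodd : oddGen O = oddGen (OO ε i j k l) := by
    apply le_antisymm
    · rw [oddGen_def O, closure_le]
      rintro x ⟨hx, ho⟩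
      refine mem_oddGen (mem_inf.2 ⟨hx.1, ?_⟩) ho
      rw [mem_centralizer_iff]
      intro y hy
      have hs := hx.2 y hy
      have hxs : ∀ s ∈ SG ε, x * s = s * x := fun s hs => (mem_centralizer_iff.1 hx.1 s (hs i j hD.ij)).symm
      have hss := h.Usq hD.ij (hs i j hD.ij)
      have key : ∀ t : ℕ, x ^ t * y * (x ^ t)⁻¹ = cm x y ^ t * y := by
        intro t
        induction t with
        | zero => simp
        | succ t ih =>
          have h6 : x ^ (t + 1) * y * (x ^ (t + 1))⁻¹ = x * (x ^ t * y * (x ^ t)⁻¹) * x⁻¹ := by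
            rw [pow_succ']; group
          have h7 : x * cm x y ^ t * x⁻¹ = cm x y ^ t := by
            rw [hxs _ (pow_mem hs t), mul_inv_cancel_right]
          rw [h6, ih]
          calc x * (cm x y ^ t * y) * x⁻¹ = (x * cm x y ^ t * x⁻¹) * (x * y * x⁻¹) := by group
            _ = cm x y ^ t * (x * y * x⁻¹) := by rw [h7]
            _ = cm x y ^ (t + 1) * y := by
                rw [pow_succ]; unfold cm; group
      have h8 := key (orderOf x)
      rw [pow_orderOf_eq_one, one_mul, inv_one, mul_one] at h8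
      obtain ⟨r, hr⟩ := ho
      have h9 : cm x y ^ orderOf x = cm x y := by
        rw [hr, pow_succ, pow_mul, pow_two, hss, one_pow, one_mul]
      rw [h9] at h8
      have h10 : cm x y = 1 := (mul_eq_right.1 h8.symm)
      exact (TTn.Di.cm_one_iff.1 h10).symm
    · refine oddGen_mono fun x hx => ⟨hx.1, fun y hy => ?_⟩
      have : cm x y = 1 := TTn.Di.cm_one_iff.2 (mem_centralizer_iff.1 hx.2 y hy).symm
      rw [this]
      exact one_mem _
  refine CoreAbs.core_abs' (N := NN ε i j) (C := centralizer (UU ε i j : Set G)) (O := O)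
    (L := P) (F := Engine.Hyp.FF ε i j k l) (l := p) (f := p⁻¹ * c * p) (c := c) (k := q) (h.C_le hD.ij) ?_ hOC hCO ?_ ?_ ?_
    ?_ hp (Or.inr hf) (by group) ?_ hk'
  · intro g hg
    exact DiCoreAbs.mem_norm_of fun x hx => cen_norm hg hx
  · intro g hg
    refine hCO ?_
    rw [mem_centralizer_iff]
    intro y hy
    exact (h.UQc hD.ij hg hy).symm
  · rintro _ (⟨g, hg, w, hw, rfl⟩ | hx)
    · exact mul_mem (mul_mem hg (h.Q_le hD (h.W2_leQ hD.kl hw))) (inv_mem hg)
    · exact o2_le _ hx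
  · rintro _ (⟨g, hg, w, hw, rfl⟩ | hx) c hc
    · have hc' : g⁻¹ * c * g ∈ centralizer (UU ε i j : Set G) := by
        have := cen_norm (inv_mem hg) hc.1
        rwa [inv_inv] at this
      set c' := g⁻¹ * c * g with hc'd
      have h3 : w * c' * w⁻¹ * c'⁻¹ ∈ o2 (NN ε i j) := by
        have h4 := inv_mem (h.cw hD hc' hw)
        have h5 : (cm c' w)⁻¹ = w * c' * w⁻¹ * c'⁻¹ := by unfold cm; group
        rwa [h5] at h4
      have h4 := (mem_normalizer_iff.1 (le_normalizer_o2 _ hg) _).1 h3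
      have h5 : g * (w * c' * w⁻¹ * c'⁻¹) * g⁻¹ = g * w * g⁻¹ * c * (g * w * g⁻¹)⁻¹ * c⁻¹ := by
        rw [hc'd]; group
      rwa [h5] at h4
    · rename_i x
      have h3 := (mem_normalizer_iff.1 (le_normalizer_o2 _ (h.C_le hD.ij hc.1)) _).1 (inv_mem hx)
      have h4 : x * c * x⁻¹ * c⁻¹ = x * (c * x⁻¹ * c⁻¹) := by group
      rw [h4]
      exact mul_mem hx h3
  · refine (h.gen_le hD).trans ?_
    rw [SetLike.coe_subset_coe]
    refine closure_mono (Set.union_subset_union_right _ ?_)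
    rw [hodd]
    exact fun x hx => normalizer_le_normalizer_oddGen _ hx
  · exact ⟨mem_centralizer_iff.2 fun y hy => (h1 y hy).symm, h2⟩

/-- **the instance** -/
theorem fr [Finite G] {w : Fin n → Fin n → G}
    (hw : ∀ i j, i ≠ j → w i j ∈ W2 ε i j ∧ Acts ε (w i j) (Equiv.swap i j)) :
    FrS ε (UU ε) (W2 ε) (fun i j => o2 (NN ε i j)) w where
  add := h.ev.add
  eU := fun hij x => h.eU hij x
  cU := fun hg _ _ _ x hx => UU_conj hg hx
  cW := fun hg _ _ _ x hx => W2_conj hg hx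
  cQ := fun hg _ _ _ x hx => o2_NN_conj hg hx
  Usym := UU_symm h.ev
  Wsym := W2_symm h.ev
  Qsym := fun i j => by rw [NN_symm h.ev]
  UK := fun hij => h.UK hij
  QA := fun hij q hq => h.QA hij hq
  Uab := fun hij u hu v hv => h.Uab hij hu hv
  Usq := fun hij u hu => h.Usq hij hu
  UQ := fun hij => h.UQ hij
  UQc := fun hij q hq u hu => h.UQc hij hq hu
  WQ := fun hij => h.W2_leQ hij
  QW := fun hij q hq x hx => h.wp_cases hij hq (W2_le _ _ hx)
  Wsq := fun hij x hx => h.W2_sq hij hx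
  wW := fun hij => (hw _ _ hij).1
  wA := fun hij => (hw _ _ hij).2
  cw := fun hD c hc x hx => h.cw hD (mem_centralizer_iff.2 fun y hy => (hc y hy).symm) hx
  core := fun hD c hc h1 h2 => h.core_sg hD hD.jk (h.W2_leQ hD.jk hc) h1 h2
  eone := h.ev.one

theorem exists_fr [Finite G] : ∃ w, FrS ε (UU ε) (W2 ε) (fun i j => o2 (NN ε i j)) w := by
  classical
  refine ⟨fun i j => if hij : i ≠ j then (h.exists_w hij).choose else 1, h.fr fun i j hij => ?_⟩
  rw [dif_pos hij]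
  exact (h.exists_w hij).choose_spec

/-- **THEOREM C** -/
theorem thC [Finite G] : ThC ε (UU ε) := by
  obtain ⟨w, F⟩ := h.exists_fr
  intro i j k hij hki hkj u hu hc
  obtain ⟨m, hmi, hmj, hmk, -⟩ := exists_fifth h.n5 i j k k
  exact (F.thmC' ⟨hij, hki.symm, hmi.symm, hkj.symm, hmj.symm, hmk.symm⟩ hu hc).2

end HypS

/-- **the hypotheses in a group of characteristic 2 type** -/
theorem HypS.of [Finite G] (hG : IsCharacteristicTwoType G) (hn : 5 ≤ n) (hodd : Odd n) (h : EvenSet n V P ε)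
    (hpair : ∀ i j k, i ≠ j → k ≠ i → k ≠ j → ∀ q ∈ o2 (NN ε i j), q * zz ε k = zz ε k * q)
    (hle : ∀ i j, i ≠ j → o2 (NN ε i j) ≤ P)
    (hN : ∃ i j, i ≠ j ∧ ∃ g ∈ WP ε i j, g * g ∈ zpowers (rr ε i j) ∧ ¬ g ∈ centralizer (V : Set G)) :
    HypS V P ε where
  n5 := hn
  odd := hodd
  ev := h
  pair := hpair
  le := hle
  stab := fun i j hij g hg => mem_o2_of_stab hG (rr_sq h i j) (rr_ne_one h (by omega) hij) hg.1 hg.2
  mov := hN

end Cfsg.Agent.Omega.NSix.EngineS
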